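import Cfsg.Agent.H89.MonsterThree.Cent
import Cfsg.Agent.H41.LFi.Perfect
import Mathlib.FieldTheory.Finite.GaloisField

/-!
The image of the centraliser of an element of shape 1^6 3^6 on the fixed classes: a normal
subgroup 3.U₄(3) of index two and no non-trivial normal 2-subgroup.
-/

set_option autoImplicit false
set_option maxRecDepth 100000
set_option maxHeartbeats 1000000
set_option linter.style.haveILetI false

namespace Cfsg.Agent.H89.MonsterThree

open Cfsg Cfsg.Agent.Golay
open Cfsg.Agent.H41.SUSix (Vec Kg IsCover isCover_Kg isCover_of_equiv ω₄)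
open Cfsg.Agent.H41.LFi (Kl lin lin_injective Semi semi_of_mem_Kl semi_e0P e0P exists_smul_mem tw eb)

attribute [local irreducible] Cfsg.Agent.H95.UFourThree.u43Chain

/-- The image. -/
noncomputable def Im : Subgroup (Equiv.Perm Vec) := shHom.range

theorem Kl_le_Im : Kl ≤ Im := Kl_le

theorem card_Im : Nat.card Im = 2 * Nat.card Kl := cent_facts.1

/-- The action, onto its image. -/
noncomputable def toIm : cent →* Im := shHom.rangeRestrict

theorem toIm_surjective : Function.Surjective toIm := shHom.rangeRestrict_surjective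

/-- The linear part. -/
noncomputable def KI : Subgroup Im := Kl.subgroupOf Im

theorem KI_index : KI.index = 2 := by
  have h := KI.card_mul_index
  have hc : Nat.card KI = Nat.card Kl :=
    Nat.card_congr (Subgroup.subgroupOfEquivOfLe Kl_le_Im).toEquiv
  rw [hc, card_Im, mul_comm 2] at h
  exact Nat.eq_of_mul_eq_mul_left (by rw [card_Kl]; norm_num) h

instance KI_normal : KI.Normal := Subgroup.normal_of_index_eq_two KI_index

/-- The scalars. -/
noncomputable def NI : Subgroup Im := (Subgroup.center KI).map KI.subtype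

instance NI_normal : NI.Normal := by
  unfold NI
  infer_instance

theorem NI_le : NI ≤ KI := Subgroup.map_subtype_le _

theorem KI_cover (F9 : Type) [Field F9] [Fintype F9] (h9 : Fintype.card F9 = 9) :
    IsCover F9 KI :=
  isCover_of_equiv ((Subgroup.subgroupOfEquivOfLe Kl_le_Im).symm)
    (isCover_of_equiv (Kg.equivMapOfInjective lin lin_injective) (isCover_Kg F9 h9) :
      IsCover F9 Kl)

/-- A field with nine elements. -/
abbrev F9 : Type := GaloisField 3 2

noncomputable instance : Fintype F9 := Fintype.ofFinite _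

theorem card_F9 : Fintype.card F9 = 9 := by
  rw [← Nat.card_eq_fintype_card, GaloisField.card 3 2 (by norm_num)]
  rfl

theorem card_NI : Nat.card NI = 3 := by
  rw [NI, Subgroup.card_map_of_injective Subtype.val_injective]
  exact (KI_cover F9 card_F9).1

theorem exists_quot : ∃ (F : Type) (_ : Field F) (_ : Fintype F), Fintype.card F = 9 ∧
    ∃ π : KI →* PSU 4 F 3, Function.Surjective π ∧ ∀ k : KI, π k = 1 ↔ (k : Im) ∈ NI := by
  obtain ⟨-, ⟨f⟩⟩ := KI_cover F9 card_F9
  refine ⟨F9, inferInstance, inferInstance, card_F9,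
    f.toMonoidHom.comp (QuotientGroup.mk' (Subgroup.center KI)),
    f.surjective.comp (QuotientGroup.mk'_surjective _), fun k => ?_⟩
  show f (QuotientGroup.mk k) = 1 ↔ _
  rw [MulEquiv.map_eq_one_iff, QuotientGroup.eq_one_iff]
  exact ⟨fun h => ⟨k, h, rfl⟩, fun ⟨k', h, e⟩ => Subtype.ext e ▸ h⟩

theorem not_semi_of_not_mem {p : Im} (hp : p ∉ KI) : Semi true ((p : Equiv.Perm Vec)) := by
  set o : Im := ⟨e0P, ⟨_, gen_out⟩⟩
  have ho : o ∉ KI := fun h => e0P_not (Subgroup.mem_subgroupOf.1 h)
  have h := (Subgroup.mul_mem_iff_of_index_two KI_index (a := o⁻¹) (b := p)).2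
    (by simp [hp, ho])
  have hk : Semi false ((o⁻¹ * p : Im) : Equiv.Perm Vec) :=
    semi_of_mem_Kl (Subgroup.mem_subgroupOf.1 h)
  have e : (p : Equiv.Perm Vec) = e0P * ((o⁻¹ * p : Im) : Equiv.Perm Vec) :=
    congrArg Subtype.val (mul_inv_cancel_left o p).symm
  rw [e]
  exact semi_e0P.comp hk

theorem two_normal_eq_bot {P : Subgroup Im} (hn : P.Normal) (hp : IsPGroup 2 P) : P = ⊥ := by
  classical
  haveI : Fact (Nat.Prime 2) := ⟨Nat.prime_two⟩
  obtain ⟨F, hF, hFt, h9, π, hπs, hπ⟩ := exists_quot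
  haveI := Cfsg.Agent.Unitary.isSimpleGroup_PSU (n := 4) (F := F) (q := 3)
    (by rw [h9]; norm_num) (by norm_num) (by simp)
  -- the part inside the linear subgroup
  set P1 := P.subgroupOf KI with hP1
  have hP1p : IsPGroup 2 P1 := hp.comap_of_injective _ KI.subtype_injective
  haveI : (P1.map π).Normal := (hn.subgroupOf KI).map π hπs
  have hbot : P1.map π = ⊥ := by
    rcases IsSimpleGroup.eq_bot_or_eq_top_of_normal (P1.map π) inferInstance with h | h
    · exact h
    exfalso
    have h2 : IsPGroup 2 (⊤ : Subgroup (PSU 4 F 3)) := h ▸ hP1p.map π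
    obtain ⟨n, hn2⟩ := IsPGroup.iff_card.1 h2
    rw [Subgroup.card_top] at hn2
    have hk := Subgroup.card_mul_index π.ker
    rw [Subgroup.index_ker, MonoidHom.range_eq_top.2 hπs, Subgroup.card_top, hn2] at hk
    have h3 : Nat.card π.ker = 3 := by
      have : π.ker.map KI.subtype = NI := by
        ext x
        constructor
        · rintro ⟨k, hk, rfl⟩; exact (hπ k).1 hk
        · intro hx
          exact ⟨⟨x, NI_le hx⟩, (hπ _).2 hx, rfl⟩
      refine Eq.trans ?_ card_NI
      rw [← this, Subgroup.card_map_of_injective Subtype.val_injective]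
    rw [h3, show Nat.card KI = Nat.card Kl from
      Nat.card_congr (Subgroup.subgroupOfEquivOfLe Kl_le_Im).toEquiv, card_Kl] at hk
    have : 3265920 = 2 ^ n := by omega
    have h3' : 3 ∣ 2 ^ n := this ▸ (by norm_num)
    exact absurd (Nat.prime_three.dvd_of_dvd_pow h3') (by norm_num)
  have hint : ∀ p ∈ P, p ∈ KI → p = 1 := by
    intro p hpP hpK
    have h1 : π ⟨p, hpK⟩ = 1 := by
      have hm : π ⟨p, hpK⟩ ∈ P1.map π := ⟨⟨p, hpK⟩, hpP, rfl⟩
      rwa [hbot, Subgroup.mem_bot] at hm
    obtain ⟨k, hk⟩ := hp ⟨p, hpP⟩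
    have ho2 : orderOf p ∣ 2 ^ k := orderOf_dvd_of_pow_eq_one (congrArg Subtype.val hk)
    have ho3 : orderOf p ∣ 3 := card_NI ▸ NI.orderOf_dvd_natCard ((hπ _).1 h1)
    exact orderOf_eq_one_iff.1 (Nat.eq_one_of_dvd_coprimes
      ((by norm_num : Nat.Coprime 2 3).pow_left k) ho2 ho3)
  rw [Subgroup.eq_bot_iff_forall]
  intro p hpP
  by_contra hne
  have hpK : p ∉ KI := fun h => hne (hint p hpP h)
  have hcomm : ∀ k ∈ KI, k * p = p * k := by
    intro k hk
    refine commutatorElement_eq_one_iff_mul_comm.1 (hint _ ?_ ?_)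
    · rw [commutatorElement_def]
      exact mul_mem (hn.conj_mem p hpP k) (inv_mem hpP)
    · rw [commutatorElement_def, mul_assoc k p, mul_assoc k]
      exact mul_mem hk (KI_normal.conj_mem _ (inv_mem hk) p)
  obtain ⟨s, hs, hsu⟩ := exists_smul_mem
  have he := congrArg (fun u : Im => (u : Equiv.Perm Vec)) (hcomm ⟨s, Kl_le_Im hs⟩ hs)
  simp only [Subgroup.coe_mul] at he
  set u := (p : Equiv.Perm Vec).symm (eb 0)
  have e := congrFun (congrArg (fun a : Equiv.Perm Vec => (a : Vec → Vec)) he) u
  simp only [Equiv.Perm.mul_apply, hsu, (not_semi_of_not_mem hpK).smul, u, Equiv.apply_symm_apply] at e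
  have e' := congrFun e 0
  simp only [Pi.smul_apply, eb, Pi.single_eq_same, smul_eq_mul, mul_one] at e'
  exact absurd e' (by decide +kernel)

end Cfsg.Agent.H89.MonsterThree
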