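import Cfsg.Agent.H89.MonsterThree.Fixed
import Cfsg.Agent.H65.MonsterFive.Wreath
import Cfsg.Agent.H41.LFi.Orbits
import Cfsg.Agent.H92.CrossGroup

/-!
The centraliser of an element of shape 1^6 3^6 in the isometry group acts on the fixed classes as
the model of 3.U₄(3) extended by a semilinear involution, with kernel of order six.
-/

set_option autoImplicit false
set_option maxRecDepth 100000
set_option maxHeartbeats 1000000
set_option linter.style.haveILetI false

namespace Cfsg.Agent.H89.MonsterThree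

open Cfsg Cfsg.Agent.Golay Cfsg.Agent.H92.LeechTwo Cfsg.Agent.H92.LeechOrbit
open Cfsg.Agent.H41.SUSix (Vec K4 dV eV eV_lt dV_eV dV_inj eV_dV genG genG_mem Kg gC mulVecC
  mulVecC_lt dV_mulVecC mat_genG cls card_Kg ω₄)
open Cfsg.Agent.Unitary (ap_def)
open Cfsg.Agent.H41.LFi (wt Kl lin lin_apply lin_injective e0P e0P_dV semi_e0P Semi semi_of_mem_Kl
  oC semi_lin transitive rootOf card_class eb herm_self iot)
open Cfsg.Agent.H65.MonsterFive (eq_of_test wordEl_append appWord testN negEl negEl_smul
  negEl_center negEl_ne_one)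

/-- The centraliser. -/
noncomputable def cent : Subgroup Co0 := Subgroup.centralizer {three}

theorem cent_comm {g : Co0} (h : g ∈ cent) (v : leechLattice) :
    g • (three • v) = three • (g • v) := by
  rw [← mul_smul, ← mul_smul, Subgroup.mem_centralizer_singleton_iff.1 h]

theorem three_mem : three ∈ cent := Subgroup.mem_centralizer_singleton_iff.2 rfl

theorem negEl_mem : negEl ∈ cent :=
  Subgroup.mem_centralizer_singleton_iff.2 (Subgroup.mem_center_iff.1 negEl_center three).symm

/-! ### Action on the fixed classes -/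

theorem class_fixed {g : Co0} (hg : g ∈ cent) {v : leechLattice} (h : Cg (three • v) v) :
    Cg (three • (g • v)) (g • v) := by
  rw [← cent_comm hg]
  exact Cg.smul g h

theorem Rv_fixed (u : Vec) : Cg (three • Rv u) (Rv u) := by
  rw [three_Rv]
  exact Cg.refl _

/-- The image of a class. -/
noncomputable def sh (g : cent) (u : Vec) : Vec := kv (g.1 • Rv u)

theorem sh_spec (g : cent) {v : leechLattice} (h : Cg (three • v) v) :
    kv (g.1 • v) = sh g (kv v) :=
  kv_cg (Cg.smul g.1 (cg_Rv h))

theorem sh_mul (g h : cent) (u : Vec) : sh (g * h) u = sh g (sh h u) := by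
  show kv ((g.1 * h.1) • Rv u) = _
  rw [mul_smul]
  exact sh_spec g (class_fixed h.2 (Rv_fixed u))

theorem sh_one (u : Vec) : sh 1 u = u := by
  show kv ((1 : Co0) • Rv u) = u
  rw [one_smul, kv_Rv]

theorem sh_add (g : cent) (u v : Vec) : sh g (u + v) = sh g u + sh g v := by
  have h : Cg (three • (Rv u + Rv v)) (Rv u + Rv v) := by
    rw [co0_smul_add, three_Rv, three_Rv]
    exact Cg.refl _
  have e := sh_spec g h
  rw [co0_smul_add, kv_add, kv_add, kv_Rv, kv_Rv] at e
  exact e.symm

/-- The action on the fixed classes. -/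
noncomputable def shHom : cent →* Equiv.Perm Vec := MonoidHom.mk'
  (fun g => ⟨sh g, sh g⁻¹, fun i => by rw [← sh_mul, inv_mul_cancel, sh_one],
    fun i => by rw [← sh_mul, mul_inv_cancel, sh_one]⟩)
  fun g h => Equiv.ext fun i => sh_mul g h i

theorem shHom_apply (g : cent) (u : Vec) : shHom g u = sh g u := rfl

theorem shHom_eq_one {g : cent} (h : ∀ u, Cg (g.1 • Rv u) (Rv u)) : shHom g = 1 :=
  Equiv.ext fun u => (kv_cg (h u)).trans (kv_Rv u)

theorem shHom_three : shHom ⟨three, three_mem⟩ = 1 :=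
  shHom_eq_one fun u => by
    rw [show (⟨three, three_mem⟩ : cent).1 = three from rfl, three_Rv]
    exact Cg.refl _

theorem shHom_neg : shHom ⟨negEl, negEl_mem⟩ = 1 :=
  shHom_eq_one fun u => by
    rw [show (⟨negEl, negEl_mem⟩ : cent).1 = negEl from rfl, negEl_smul]
    exact Cg.neg_self _

/-! ### The generators -/

/-- An atom by its number. -/
def mkA : ℕ → Atom
  | 0 => .zeta
  | i + 1 => .mono (monS.getD i 0) (monSS.getD i 0) (monT.getD i 0)

theorem atom_checks : ∀ i : Fin 21, atomOK (mkA i.1) = true ∧ ∀ n ∈ testN,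
    chk [mkA i.1, tauAtom] n (appWord [mkA i.1, tauAtom] n) = true ∧
    chk [tauAtom, mkA i.1] n (appWord [mkA i.1, tauAtom] n) = true := by
  decide +kernel

theorem atom_mem (i : Fin 21) : wordEl [mkA i.1] ∈ cent := by
  obtain ⟨hok, hc⟩ := atom_checks i
  have h1 : ([mkA i.1] ++ [tauAtom]).all atomOK = true := by simp [hok, tauAtom_ok]
  have h2 : ([tauAtom] ++ [mkA i.1]).all atomOK = true := by simp [hok, tauAtom_ok]
  have : wordEl ([mkA i.1] ++ [tauAtom]) = wordEl ([tauAtom] ++ [mkA i.1]) :=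
    eq_of_test fun n hn v hv => Subtype.ext (by
      rw [chk_sound h1 (hc n hn).1 hv, chk_sound h2 (hc n hn).2 hv])
  rw [wordEl_append, wordEl_append] at this
  exact Subgroup.mem_centralizer_singleton_iff.2 this.symm

/-- The word of a generator. -/
def genAtoms (a : Fin 11) : List Atom := (genW.getD a.1 []).map mkA

theorem genW_lt : ∀ a : Fin 11, (genW.getD a.1 []).all (fun i => decide (i < 21)) = true := by
  decide +kernel

theorem word_mem : ∀ l : List ℕ, (∀ i ∈ l, i < 21) →
    wordEl (l.map mkA) ∈ cent ∧ (l.map mkA).all atomOK = true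
  | [], _ => ⟨by rw [List.map_nil, wordEl]; exact one_mem _, rfl⟩
  | i :: r, h => by
    obtain ⟨h1, h2⟩ := word_mem r fun j hj => h j (List.mem_cons_of_mem _ hj)
    have ha := atom_mem ⟨i, h i List.mem_cons_self⟩
    have hok := (atom_checks ⟨i, h i List.mem_cons_self⟩).1
    refine ⟨?_, by rw [List.map_cons, List.all_cons, h2, hok]; rfl⟩
    rw [List.map_cons, ← List.singleton_append, wordEl_append]
    exact mul_mem h1 ha

theorem genAtoms_facts (a : Fin 11) :
    wordEl (genAtoms a) ∈ cent ∧ (genAtoms a).all atomOK = true :=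
  word_mem _ fun i hi => by simpa using List.all_eq_true.1 (genW_lt a) i hi

/-- A generator. -/
noncomputable def gen (a : Fin 11) : cent := ⟨wordEl (genAtoms a), (genAtoms_facts a).1⟩

/-- The predicted image of a unit vector. -/
noncomputable def tgt (a j : ℕ) : ℕ :=
  cond (Nat.blt a 10) (mulVecC (gC a) (2 ^ j)) (oC (2 ^ j))

theorem tgt_lt (a j : ℕ) : tgt a j < 4096 := by
  unfold tgt
  cases Nat.blt a 10 <;> exact mulVecC_lt _ _

theorem image_ok : ∀ (a : Fin 11) (j : Fin 12),
    chk (genAtoms a) (eN.getD j.1 0) ((genIm.getD a.1 []).getD j.1 0) = true ∧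
    ∀ k : Fin 12, dN ((genIm.getD a.1 []).getD j.1 0) (bwN.getD k.1 0) =
      if (tgt a.1 j.1).testBit k.1 then 1 else 0 := by
  decide +kernel

theorem sh_gen (a : Fin 11) (j : Fin 12) : sh (gen a) (dV (2 ^ j.1)) = dV (tgt a.1 j.1) := by
  have hf : Cg (three • ev j) (ev j) := by
    rw [three_ev]
    exact Cg.refl _
  rw [← kv_ev, ← sh_spec _ hf]
  exact kv_of_dec (chk_sound (genAtoms_facts a).2 (image_ok a j).1 rfl) (tgt_lt _ _) (image_ok a j).2

theorem add_ext {f f' : Vec → Vec} (hf : ∀ u v, f (u + v) = f u + f v)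
    (hf' : ∀ u v, f' (u + v) = f' u + f' v)
    (h : ∀ j : Fin 12, f (dV (2 ^ j.1)) = f' (dV (2 ^ j.1))) (u : Vec) : f u = f' u := by
  show AddMonoidHom.mk' f hf u = AddMonoidHom.mk' f' hf' u
  rw [← dV_eV u, dV_fin (eV_lt u), map_sum, map_sum]
  refine Finset.sum_congr rfl fun j _ => ?_
  split_ifs
  · exact h j
  · rw [map_zero, map_zero]

theorem gen_lin (k : Fin 10) :
    shHom (gen ⟨k.1, Nat.lt_succ_of_lt k.2⟩) = lin (genG k) := by
  refine Equiv.ext fun u => add_ext (sh_add _) (semi_lin _).add (fun j => ?_) u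
  rw [sh_gen, tgt, show Nat.blt k.1 10 = true by simpa [Nat.blt, Nat.ble_eq] using k.2,
    cond_true, lin_apply, ap_def, mat_genG, dV_mulVecC]

theorem gen_out : shHom (gen 10) = e0P := by
  refine Equiv.ext fun u => add_ext (sh_add _) semi_e0P.add (fun j => ?_) u
  rw [sh_gen, e0P_dV]
  rfl

theorem Kl_le : Kl ≤ shHom.range := by
  rw [Kl, Subgroup.map_le_iff_le_comap, Kg, Subgroup.closure_le]
  rintro _ ⟨k, rfl⟩
  exact ⟨_, gen_lin k⟩

theorem not_semi_both {a : Equiv.Perm Vec} (hf : Semi false a) (ht : Semi true a) : False := by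
  have e := hf.smul ω₄ (a.symm (eb 0))
  rw [ht.smul ω₄ (a.symm (eb 0)), a.apply_symm_apply] at e
  have e' := congrFun e 0
  simp only [Pi.smul_apply, eb, Pi.single_eq_same, smul_eq_mul, mul_one] at e'
  exact absurd e' (by decide +kernel)

theorem e0P_not : e0P ∉ Kl := fun h => not_semi_both (semi_of_mem_Kl h) semi_e0P

theorem card_Kl : Nat.card Kl = 3 * 3265920 := by
  rw [Kl, ← Nat.card_congr (Subgroup.equivMapOfInjective Kg lin lin_injective).toEquiv, card_Kg]

/-! ### The bound -/

theorem five_ok : inLeech (dec fiveN) = true ∧ (∀ q, dec fiveN (tauF q) = dec fiveN q) ∧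
    sqNorm (dec fiveN) = 32 ∧
    ∀ k : Fin 12, dN fiveN (bwN.getD k.1 0) = if (5 : ℕ).testBit k.1 then 1 else 0 := by
  decide +kernel

/-- A short fixed vector over the special root. -/
def fiveV : leechLattice := ⟨dec fiveN, mem_of_inLeech five_ok.1⟩

theorem cls_of_norm {v : leechLattice} (hv : Cg (three • v) v) (hn : nrm v = 64) :
    cls (kv v) = 3 := by
  obtain ⟨f1, f0, f3⟩ := Cfsg.Agent.H41.SUSix.facts (kv v)
  have hwt : wt (kv v) = 0 := by
    rw [← q2_fixed hv]
    show ((nrm v / 16 : ℤ) : ZMod 2) = 0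
    rw [hn]
    rfl
  have n1 : cls (kv v) ≠ 1 := fun h => by
    have := f1.1 h
    rw [herm_self, hwt] at this
    exact absurd this (by decide +kernel)
  have n0 : cls (kv v) ≠ 0 := fun h => by
    have h0 : Cg (three • (0 : leechLattice)) 0 := by
      rw [co0_smul_zero]
      exact Cg.refl _
    have e : Cg v 0 := by
      have e1 := cg_Rv hv
      have e2 := cg_Rv h0
      rw [f0.1 h] at e1
      rw [kv_zero] at e2
      exact e1.trans e2.symm
    rcases short_unique e (by rw [hn, nrm_zero]; norm_num) with e' | e' | ⟨e', -⟩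
    · rw [← e', nrm_zero] at hn; omega
    · have := congrArg nrm e'
      rw [nrm_neg, hn, nrm_zero] at this; omega
    · rw [hn, nrm_zero] at e'; omega
  have n2 : cls (kv v) ≠ 2 := fun h => by
    obtain ⟨k, hk, e⟩ := transitive (Or.inl rfl) h
    obtain ⟨δ, rfl⟩ := Kl_le hk
    have hf : Cg (three • fiveV) fiveV := by
      rw [show three • fiveV = fiveV from three_fix_iff.2 five_ok.2.1]
      exact Cg.refl _
    have hk5 : kv fiveV = rootOf 2 := by
      rw [rootOf, if_pos rfl]
      exact kv_of_dec rfl (by norm_num) five_ok.2.2.2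
    rw [shHom_apply, ← hk5, ← sh_spec _ hf] at e
    have e2 := cg_Rv (class_fixed δ.2 hf)
    rw [e] at e2
    have e3 : Cg v (δ.1 • fiveV) := (cg_Rv hv).trans e2.symm
    have h32 : nrm (δ.1 • fiveV) = 32 := (co0_sqNorm δ.1 fiveV).trans five_ok.2.2.1
    rcases short_unique e3 (by rw [hn, h32]; norm_num) with e' | e' | ⟨e', -⟩
    · rw [e'] at h32; omega
    · rw [e', nrm_neg] at h32; omega
    · omega
  omega

theorem axis_class : Cg (three • axisVec none) (axisVec none) := by
  rw [axis_fixed]
  exact Cg.refl _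

theorem sh_axis_cls (g : cent) : cls (sh g (kv (axisVec none))) = 3 := by
  rw [← sh_spec g axis_class]
  exact cls_of_norm (class_fixed g.2 axis_class)
    ((co0_sqNorm g.1 _).trans (Cfsg.Agent.H92.LeechTwo.nrm_axis none))

/-- Sign sets fixed by the element. -/
def invCodes : List ℕ := codeList.filter fun m => Nat.beq (tblImg tauT m) m

theorem invCodes_length : invCodes.length = 64 := by decide +kernel

theorem permOf_three : permOf ⟨three, three_eq ▸ permAut_mem tau⟩ = tau := by
  have : (⟨three, three_eq ▸ permAut_mem tau⟩ : crossStab) = ⟨permAut tau, permAut_mem tau⟩ :=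
    Subtype.ext three_eq
  rw [this, permOf_permAut]

theorem crossCent_split {g : Co0} (hg : g ∈ cent) (hgc : g ∈ crossStab) :
    ∃ σ : centTau, ∃ c : SignSet, maskOf c.1 ∈ invCodes ∧ g = signAut c * Cfsg.Agent.H92.LeechTwo.permHom σ.1 := by
  have hcomm : g * three = three * g := Subgroup.mem_centralizer_singleton_iff.1 hg
  have hthree : three ∈ crossStab := three_eq ▸ permAut_mem tau
  have hσ : permOf ⟨g, hgc⟩ ∈ centTau := by
    refine Subgroup.mem_centralizer_singleton_iff.2 ?_
    rw [← permOf_three, ← map_mul, ← map_mul]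
    exact congrArg permOf (Subtype.ext hcomm)
  obtain ⟨a, ha, σ, hgσ⟩ := split_crossStab hgc
  have hσ' : σ = permOf ⟨g, hgc⟩ := by
    have hac : a ∈ crossStab := signs_le ha
    have : (⟨g, hgc⟩ : crossStab) = ⟨a, hac⟩ * ⟨permAut σ, permAut_mem σ⟩ := Subtype.ext hgσ
    rw [this, map_mul, permOf_permAut]
    obtain ⟨a', ha', hae⟩ := ha
    rw [show (⟨a, hac⟩ : crossStab) = a' from Subtype.ext hae.symm, MonoidHom.mem_ker.1 ha', one_mul]
  subst hσ'
  set σ := permOf ⟨g, hgc⟩
  obtain ⟨c, rfl⟩ := mem_signs.1 ha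
  refine ⟨⟨σ, hσ⟩, c, ?_, hgσ⟩
  have hσc : Cfsg.Agent.H92.LeechTwo.permHom σ * three = three * Cfsg.Agent.H92.LeechTwo.permHom σ := by
    rw [three_eq, show permAut tau = Cfsg.Agent.H92.LeechTwo.permHom tau from rfl, ← map_mul, ← map_mul,
      Subgroup.mem_centralizer_singleton_iff.1 hσ]
  have hc : permAut tau * signAut c * (permAut tau)⁻¹ = signAut c := by
    rw [← three_eq, mul_inv_eq_iff_eq_mul]
    rw [hgσ, mul_assoc, hσc, ← mul_assoc, ← mul_assoc] at hcomm
    exact (mul_right_cancel hcomm).symm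
  obtain ⟨d, hd, he⟩ := Cfsg.Agent.H92.LeechTwo.conj_signAut tau c
  have hdc : d = c := congrArg Prod.snd (monoAut_injective (a₁ := ((1 : M24), d))
    (a₂ := ((1 : M24), c)) (he.symm.trans hc))
  subst hdc
  rw [invCodes, List.mem_filter]
  refine ⟨mem_supports_iff.1 d.2, ?_⟩
  have hv := validT_of_inM24 tauT_ok
  have : tblImg tauT (maskOf d.1) = maskOf d.1 := by
    refine ptSet_injOn (tblImg_lt hv _) (maskOf_lt _) ?_
    rw [ptSet_tblImg hv, ptSet_maskOf]
    exact hd.symm
  rw [this]
  exact Nat.beq_refl _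

theorem card_crossCent : Nat.card (crossStab.subgroupOf cent) ≤ 69120 := by
  choose σ c hc he using fun g : crossStab.subgroupOf cent => crossCent_split g.1.2 g.2
  have hinj : Function.Injective (fun g : crossStab.subgroupOf cent =>
      ((⟨maskOf (c g).1, List.mem_toFinset.2 (hc g)⟩ : invCodes.toFinset), σ g)) := by
    intro g g' h
    have h1 : c g = c g' := Subtype.ext (maskOf_injective (congrArg (fun p => (p.1 : ℕ)) h))
    have h2 : σ g = σ g' := congrArg Prod.snd h
    refine Subtype.ext (Subtype.ext ?_)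
    rw [he g, he g', h1, h2]
  have h := Nat.card_le_card_of_injective _ hinj
  rw [Nat.card_prod, Nat.card_eq_fintype_card (α := invCodes.toFinset), Fintype.card_coe] at h
  have h1 := invCodes.toFinset_card_le
  rw [invCodes_length] at h1
  exact h.trans (Nat.mul_le_mul h1 card_centTau)

theorem card_cent_le : Nat.card cent ≤ 1701 * 69120 := by
  set K := crossStab.subgroupOf cent
  have h1 := K.card_eq_card_quotient_mul_card_subgroup
  have hcl : ∀ g h : cent, sh g (kv (axisVec none)) = sh h (kv (axisVec none)) →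
      (QuotientGroup.mk g : cent ⧸ K) = QuotientGroup.mk h := by
    intro g h he
    refine QuotientGroup.eq.2 ?_
    show (g⁻¹ * h : cent).1 ∈ crossStab
    rw [← classStab_axis, mem_classStab]
    have e1 := cg_Rv (class_fixed g.2 axis_class)
    have e2 := cg_Rv (class_fixed h.2 axis_class)
    rw [sh_spec g axis_class, he, ← sh_spec h axis_class] at e1
    have e3 := Cg.smul g.1⁻¹ (e2.trans e1.symm)
    rw [inv_smul_smul, ← mul_smul] at e3
    exact e3
  have h2 : Nat.card (cent ⧸ K) ≤ 1701 := by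
    rw [← Cfsg.Agent.H41.SUSix.count_three, ← card_class 3]
    refine Nat.card_le_card_of_injective
      (fun q => (⟨sh q.out (kv (axisVec none)), sh_axis_cls _⟩ : {u : Vec | cls u = 3}))
      fun q q' h => ?_
    have := hcl q.out q'.out (congrArg Subtype.val h)
    rwa [QuotientGroup.out_eq', QuotientGroup.out_eq'] at this
  rw [h1]
  exact Nat.mul_le_mul h2 card_crossCent

/-- The element of order six acting trivially. -/
noncomputable def kerEl : cent := ⟨negEl, negEl_mem⟩ * ⟨three, three_mem⟩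

theorem kerEl_order : orderOf kerEl = 6 := by
  have hc : Commute (⟨negEl, negEl_mem⟩ : cent) ⟨three, three_mem⟩ :=
    Subtype.ext (Subgroup.mem_center_iff.1 negEl_center three).symm
  haveI : Fact (Nat.Prime 2) := ⟨Nat.prime_two⟩
  have h2 : orderOf (⟨negEl, negEl_mem⟩ : cent) = 2 := by
    refine orderOf_eq_prime (Subtype.ext ?_) fun h => negEl_ne_one (congrArg Subtype.val h)
    rw [SubgroupClass.coe_pow, pow_two]
    refine co0_ext fun v => ?_
    show (negEl * negEl) • v = (1 : Co0) • v
    rw [mul_smul, negEl_smul, negEl_smul, neg_neg, one_smul]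
  have h3 : orderOf (⟨three, three_mem⟩ : cent) = 3 := by
    rw [← Subgroup.orderOf_coe]
    exact orderOf_three
  rw [kerEl, hc.orderOf_mul_eq_mul_orderOf_of_coprime (by rw [h2, h3]; norm_num), h2, h3]

theorem kerEl_mem : kerEl ∈ shHom.ker := by
  rw [MonoidHom.mem_ker, kerEl, map_mul, shHom_neg, shHom_three, one_mul]

theorem card_range_ge : 2 * Nat.card Kl ≤ Nat.card shHom.range := by
  classical
  have hinj : Function.Injective (fun p : Bool × Kl =>
      (⟨cond p.1 (e0P * p.2.1) p.2.1, by
        cases p.1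
        · exact Kl_le p.2.2
        · exact mul_mem ⟨_, gen_out⟩ (Kl_le p.2.2)⟩ : shHom.range)) := by
    rintro ⟨b, x⟩ ⟨b', x'⟩ h
    have h' := congrArg Subtype.val h
    cases b <;> cases b' <;> simp only [cond_true, cond_false] at h'
    · exact Prod.ext rfl (Subtype.ext h')
    · exact absurd ((Subgroup.mul_mem_cancel_right Kl x'.2).1 (h' ▸ x.2)) e0P_not
    · exact absurd ((Subgroup.mul_mem_cancel_right Kl x.2).1 (h'.symm ▸ x'.2)) e0P_not
    · exact Prod.ext rfl (Subtype.ext (mul_left_cancel h'))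
  have h := Nat.card_le_card_of_injective _ hinj
  rwa [Nat.card_prod, Nat.card_eq_fintype_card (α := Bool), Fintype.card_bool] at h

theorem cent_facts : Nat.card shHom.range = 2 * Nat.card Kl ∧
    shHom.ker = Subgroup.zpowers kerEl := by
  have h1 := Subgroup.card_mul_index shHom.ker
  rw [Subgroup.index_ker] at h1
  have h2 := card_range_ge
  have h3 := card_cent_le
  have hk : Subgroup.zpowers kerEl ≤ shHom.ker := Subgroup.zpowers_le.2 kerEl_mem
  have h6 : 6 ≤ Nat.card shHom.ker := by
    rw [← kerEl_order, ← Nat.card_zpowers]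
    exact Nat.card_le_card_of_injective _ (Subgroup.inclusion_injective hk)
  rw [card_Kl] at h2 ⊢
  have hr : Nat.card shHom.range = 2 * (3 * 3265920) := by
    have := Nat.mul_le_mul_right (Nat.card shHom.range) h6
    omega
  refine ⟨hr, (Subgroup.eq_of_le_of_card_ge hk ?_).symm⟩
  rw [Nat.card_zpowers, kerEl_order]
  rw [hr] at h1
  omega

theorem mem_ker {g : cent} (h : shHom g = 1) :
    (QuotientGroup.mk g.1 : Spor.Co1) ∈ Subgroup.zpowers (QuotientGroup.mk three : Spor.Co1) := by
  have hg : g ∈ Subgroup.zpowers kerEl := cent_facts.2 ▸ MonoidHom.mem_ker.2 h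
  obtain ⟨i, rfl⟩ := Subgroup.mem_zpowers_iff.1 hg
  refine Subgroup.mem_zpowers_iff.2 ⟨i, ?_⟩
  rw [Subgroup.coe_zpow, QuotientGroup.mk_zpow, kerEl, Subgroup.coe_mul, QuotientGroup.mk_mul,
    (QuotientGroup.eq_one_iff negEl).2 negEl_center, one_mul]

end Cfsg.Agent.H89.MonsterThree
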