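import Cfsg.Agent.H89.MonsterThree.Perm

/-!
An element of order three of the Mathieu group of degree 24 that is central in a Sylow 3-subgroup
is conjugate to the element of shape 1^6 3^6.
-/

set_option autoImplicit false
set_option maxRecDepth 100000

namespace Cfsg.Agent.H89.MonsterThree

open Cfsg Cfsg.Agent.Golay
open scoped Pointwise

/-- An element of the Sylow subgroup as a table. -/
def elT (i : Fin 27) : ℕ := elL.getD i.1 0

theorem elT_ok : ∀ i : Fin 27, inM24 (elT i) = true := by decide +kernel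

/-- An element of the Sylow subgroup. -/
noncomputable def elP (i : Fin 27) : M24 := ⟨mkPerm (elT i), mem_M24_of_inM24 (elT_ok i)⟩

theorem elP_apply (i : Fin 27) (q : GolayPt) : (elP i).1 q = tblFun (elT i) q :=
  mkPerm_apply (validT_of_inM24 (elT_ok i)) q

/-- The product. -/
def mIx (i j : Fin 27) : Fin 27 := Fin.ofNat 27 ((mulW >>> (5 * (27 * i.1 + j.1))) % 32)

theorem mIx_table : ∀ i j : Fin 27, ∀ q : GolayPt,
    tblFun (elT (mIx i j)) q = tblFun (elT i) (tblFun (elT j) q) := by
  decide +kernel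

theorem elT_facts : (∀ q : GolayPt, tblFun (elT 0) q = q) ∧
    (∀ i : Fin 27, ∃ j, mIx i j = 0) ∧
    (∀ i j : Fin 27, (∀ q : GolayPt, tblFun (elT i) q = tblFun (elT j) q) → i = j) := by
  decide +kernel

theorem elP_mul (i j : Fin 27) : elP i * elP j = elP (mIx i j) :=
  Subtype.ext (Equiv.ext fun q => by
    show (elP i).1 ((elP j).1 q) = _
    rw [elP_apply, elP_apply, elP_apply, mIx_table])

theorem elP_zero : elP 0 = 1 :=
  Subtype.ext (Equiv.ext fun q => by rw [elP_apply, elT_facts.1]; rfl)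

theorem elP_injective : Function.Injective elP := fun i j h => elT_facts.2.2 i j fun q => by
  rw [← elP_apply, ← elP_apply, h]

/-- The Sylow subgroup. -/
noncomputable def sylP : Subgroup M24 where
  carrier := Set.range elP
  one_mem' := ⟨0, elP_zero⟩
  mul_mem' := by
    rintro _ _ ⟨i, rfl⟩ ⟨j, rfl⟩
    exact ⟨_, (elP_mul i j).symm⟩
  inv_mem' := by
    rintro _ ⟨i, rfl⟩
    obtain ⟨j, hj⟩ := elT_facts.2.1 i
    exact ⟨j, (inv_eq_of_mul_eq_one_right (by rw [elP_mul, hj, elP_zero])).symm⟩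

theorem card_sylP : Nat.card sylP = 27 := by
  show Nat.card (Set.range elP) = 27
  rw [Nat.card_range_of_injective elP_injective, Nat.card_eq_fintype_card, Fintype.card_fin]

theorem center_table : ∀ i : Fin 27, (∀ j, mIx i j = mIx j i) → i = 0 ∨ i = 1 ∨ i = 2 := by
  decide +kernel

theorem center_elts : (∀ q : GolayPt, tblFun (elT 1) q = tauF q) ∧
    (∀ q : GolayPt, tblFun (elT 2) q = tauF (tauF q)) ∧ inM24 invT = true ∧
    (∀ q : GolayPt, tblFun invT (tauF (tauF q)) = tauF (tblFun invT q)) := by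
  decide +kernel

theorem elP_one : elP 1 = tau :=
  Subtype.ext (Equiv.ext fun q => by rw [elP_apply, tau_apply, center_elts.1])

theorem exists_inverter : ∃ g : M24, g * elP 2 * g⁻¹ = tau := by
  refine ⟨⟨mkPerm invT, mem_M24_of_inM24 center_elts.2.2.1⟩, mul_inv_eq_iff_eq_mul.2 ?_⟩
  refine Subtype.ext (Equiv.ext fun q => ?_)
  have hv := validT_of_inM24 center_elts.2.2.1
  show mkPerm invT ((elP 2).1 q) = tau.1 (mkPerm invT q)
  rw [mkPerm_apply hv, mkPerm_apply hv, elP_apply, tau_apply, center_elts.2.1]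
  exact center_elts.2.2.2 q

/-- A central element of a Sylow subgroup is conjugate to the element of shape 1^6 3^6. -/
theorem three_central {P : Subgroup M24} (hP : Nat.card P = 27) {x : M24} (hx : orderOf x = 3)
    (hxP : x ∈ P) (hc : ∀ y ∈ P, x * y = y * x) : ∃ g : M24, g * x * g⁻¹ = tau := by
  haveI : Fact (Nat.Prime 3) := ⟨Nat.prime_three⟩
  have hidx : ∀ R : Subgroup M24, Nat.card R = 27 → ¬ 3 ∣ R.index := by
    intro R hR h
    have h1 := R.card_mul_index
    rw [hR, card_M24] at h1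
    have h2 : R.index = 9067520 := by omega
    rw [h2] at h
    norm_num at h
  have hp : ∀ R : Subgroup M24, Nat.card R = 27 → IsPGroup 3 R := fun R hR =>
    IsPGroup.of_card (n := 3) (by rw [hR]; rfl)
  obtain ⟨h, hh⟩ := MulAction.exists_smul_eq M24 ((hp P hP).toSylow (hidx P hP))
    ((hp sylP card_sylP).toSylow (hidx sylP card_sylP))
  have hmap : MulAut.conj h • P = sylP := by
    show MulAut.conj h • (((hp P hP).toSylow (hidx P hP) : Sylow 3 M24) : Subgroup M24) =
      (((hp sylP card_sylP).toSylow (hidx sylP card_sylP) : Sylow 3 M24) : Subgroup M24)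
    rw [← Sylow.coe_subgroup_smul, hh]
  have hmem : ∀ y ∈ P, h * y * h⁻¹ ∈ sylP := fun y hy => by
    have h1 : MulAut.conj h y ∈ MulAut.conj h • P := Subgroup.smul_mem_pointwise_smul _ _ _ hy
    rwa [hmap] at h1
  obtain ⟨i, hi⟩ := hmem x hxP
  have hcen : ∀ j, mIx i j = mIx j i := by
    intro j
    have hj : elP j ∈ MulAut.conj h • P := hmap.symm ▸ ⟨j, rfl⟩
    obtain ⟨y, hy, hyj⟩ := hj
    have hyj' : h * y * h⁻¹ = elP j := hyj
    refine elP_injective ?_
    rw [← elP_mul, ← elP_mul, hi, ← hyj']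
    calc h * x * h⁻¹ * (h * y * h⁻¹) = h * (x * y) * h⁻¹ := by group
      _ = h * y * h⁻¹ * (h * x * h⁻¹) := by rw [hc y hy]; group
  rcases center_table i hcen with rfl | rfl | rfl
  · rw [elP_zero, eq_comm, conj_eq_one_iff] at hi
    rw [hi, orderOf_one] at hx
    norm_num at hx
  · exact ⟨h, by rw [← hi, elP_one]⟩
  · obtain ⟨g, hg⟩ := exists_inverter
    refine ⟨g * h, ?_⟩
    rw [← hg, hi]
    group

end Cfsg.Agent.H89.MonsterThree
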