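import Cfsg.Agent.H89.MonsterThree.Perm
import Cfsg.Agent.H92.LeechModTwo
import Cfsg.Agent.H41.LFi.Core
import Cfsg.Agent.H89.LFiFour.Model

/-!
Classes of the lattice modulo two fixed by an element of shape 1^6 3^6, identified with the
six-dimensional unitary space over the field with four elements.
-/

set_option autoImplicit false
set_option maxRecDepth 100000
set_option maxHeartbeats 1000000

namespace Cfsg.Agent.H89.MonsterThree

open Cfsg Cfsg.Agent.Golay Cfsg.Agent.H92.LeechTwo Cfsg.Agent.H92.LeechOrbit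
open Cfsg.Agent.H41.SUSix (Vec K4 dV eV eV_lt dV_eV dV_inj eV_dV)
open Cfsg.Agent.H41.LFi (wt pol dV_xor dV_zero)
open Cfsg.Agent.H89.LFiFour (vec_add_self polC polC_spec)

/-- The atom of the element. -/
def tauAtom : Atom := .mono 0 0 tauT

/-- The element of order three in the isometry group. -/
noncomputable def three : Co0 := wordEl [tauAtom]

theorem tauAtom_ok : atomOK tauAtom = true := by decide +kernel

theorem three_apply (v : leechLattice) (q : GolayPt) :
    (three • v).1 (tau.1 q) = v.1 q := by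
  rw [three, wordEl, wordEl, one_mul, tau_apply, tauF, tblFun, tauAtom, monoEl_apply tauAtom_ok,
    Nat.zero_testBit]
  rfl

theorem three_eq : three = permAut tau := co0_ext fun v => Subtype.ext (funext fun l => by
  obtain ⟨q, rfl⟩ : ∃ q, tau.1 q = l := ⟨tau.1.symm l, tau.1.apply_symm_apply l⟩
  rw [three_apply, permAut_apply])

theorem three_fix_iff {v : leechLattice} : three • v = v ↔ ∀ q, v.1 (tauF q) = v.1 q := by
  constructor
  · intro h q
    have := three_apply v q
    rwa [h, tau_apply] at this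
  · intro h
    refine Subtype.ext (funext fun l => ?_)
    obtain ⟨q, rfl⟩ : ∃ q, tau.1 q = l := ⟨tau.1.symm l, tau.1.apply_symm_apply l⟩
    rw [three_apply, tau_apply, h]

theorem three_pow_three : three ^ 3 = 1 := by
  have h : ∀ n (v : leechLattice) (q : GolayPt), (three ^ n • v).1 (tauF^[n] q) = v.1 q := by
    intro n
    induction n with
    | zero => intro v q; simp
    | succ n ih =>
      intro v q
      rw [pow_succ', mul_smul, Function.iterate_succ_apply', ← tau_apply, three_apply, ih]
  refine co0_ext fun v => Subtype.ext (funext fun q => ?_)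
  have := h 3 v q
  rw [tauF_facts.2.2.2.2.2] at this
  rw [this, one_smul]

theorem three_ne_one : three ≠ 1 := fun h => by
  have h1 : three • axisVec (rp 0) = axisVec (rp 0) := by rw [h, one_smul]
  have h2 := (three_fix_iff.1 h1) (rp 0)
  have h3 : (Pi.single (rp 0) (8 : ℤ) : GolayPt → ℤ) (tauF (rp 0)) ≠
      (Pi.single (rp 0) (8 : ℤ) : GolayPt → ℤ) (rp 0) := by decide +kernel
  exact h3 h2

theorem orderOf_three : orderOf three = 3 := by
  haveI : Fact (Nat.Prime 3) := ⟨Nat.prime_three⟩
  exact orderOf_eq_prime three_pow_three three_ne_one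

theorem axis_fixed : three • axisVec none = axisVec none := by
  refine three_fix_iff.2 fun q => ?_
  have h : ∀ q, (Pi.single none (8 : ℤ) : GolayPt → ℤ) (tauF q) =
      (Pi.single none (8 : ℤ) : GolayPt → ℤ) q := by decide +kernel
  exact h q

/-! ### The coordinates -/

theorem bw_ok : ∀ j : Fin 12, inLeech (dec (bwN.getD j.1 0)) = true := by decide +kernel

/-- Fixed vectors giving the coordinates. -/
def bw (j : Fin 12) : leechLattice := ⟨dec (bwN.getD j.1 0), mem_of_inLeech (bw_ok j)⟩

/-- A vector or zero, along a scalar. -/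
noncomputable def sel (a : ZMod 2) (x : Vec) : Vec := if a = 0 then 0 else x

theorem sel_add (a b : ZMod 2) (x : Vec) : sel (a + b) x = sel a x + sel b x := by
  rcases (by decide : ∀ a : ZMod 2, a = 0 ∨ a = 1) a with rfl | rfl <;>
    rcases (by decide : ∀ a : ZMod 2, a = 0 ∨ a = 1) b with rfl | rfl <;>
    simp [sel, vec_add_self, show (1 : ZMod 2) + 1 = 0 from rfl]

/-- The coordinates of a vector. -/
noncomputable def kv (v : leechLattice) : Vec :=
  ∑ j : Fin 12, sel (d8 v (bw j)) (dV (2 ^ j.1))

theorem kv_add (v w : leechLattice) : kv (v + w) = kv v + kv w := by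
  simp only [kv, d8_add, sel_add, Finset.sum_add_distrib]

theorem kv_zero : kv 0 = 0 := by simp [kv, d8_zero, sel]

theorem kv_cg {v w : leechLattice} (h : Cg v w) : kv v = kv w := by
  obtain ⟨u, rfl⟩ := h
  rw [kv_add, kv_add, vec_add_self, add_zero]

theorem dV_bits : ∀ k t, t < 2 ^ k →
    dV t = ∑ j ∈ Finset.range k, if t.testBit j then dV (2 ^ j) else 0
  | 0, t, h => by
    rw [Finset.range_zero, Finset.sum_empty, show t = 0 by omega, dV_zero]
  | k + 1, t, h => by
    rw [Finset.sum_range_succ]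
    have hhi : ∀ i, k + 1 ≤ i → t.testBit i = false := fun i hi =>
      Nat.testBit_lt_two_pow (lt_of_lt_of_le h (Nat.pow_le_pow_right two_pos hi))
    cases hb : t.testBit k
    · rw [dV_bits k t (Nat.lt_pow_two_of_testBit t fun i hi => by
        rcases eq_or_lt_of_le hi with e | e
        · rw [← e]; exact hb
        · exact hhi i e)]
      simp
    · set u := Nat.xor t (2 ^ k) with hu
      have hbit : ∀ i, u.testBit i = (t.testBit i != decide (k = i)) := fun i => by
        show (t ^^^ 2 ^ k).testBit i = _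
        rw [Nat.testBit_xor, Nat.testBit_two_pow]
      have hlt : u < 2 ^ k := Nat.lt_pow_two_of_testBit u fun i hi => by
        rw [hbit]
        rcases eq_or_lt_of_le hi with e | e
        · simp [← e, hb]
        · simp [hhi i e, Nat.ne_of_lt e]
      have ht : dV t = dV u + dV (2 ^ k) := by
        rw [← dV_xor]
        congr 1
        show t = t ^^^ 2 ^ k ^^^ 2 ^ k
        rw [Nat.xor_assoc, Nat.xor_self, Nat.xor_zero]
      rw [ht, dV_bits k u hlt, if_pos rfl]
      congr 1
      refine Finset.sum_congr rfl fun i hi => ?_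
      rw [hbit, show decide (k = i) = false from
        decide_eq_false (Nat.ne_of_gt (Finset.mem_range.1 hi))]
      simp

theorem dV_fin {t : ℕ} (ht : t < 4096) :
    dV t = ∑ j : Fin 12, if t.testBit j.1 then dV (2 ^ j.1) else 0 := by
  rw [dV_bits 12 t ht, Fin.sum_univ_eq_sum_range (fun j => if t.testBit j then dV (2 ^ j) else 0)]

/-- The coordinates can be read off a code. -/
theorem kv_eq_of_bits {v : leechLattice} {t : ℕ} (ht : t < 4096)
    (h : ∀ j : Fin 12, d8 v (bw j) = if t.testBit j.1 then 1 else 0) : kv v = dV t := by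
  rw [dV_fin ht, kv]
  refine Finset.sum_congr rfl fun j _ => ?_
  rw [h j]
  cases t.testBit j.1 <;> simp [sel]

/-- The scalar product modulo two of two packed vectors. -/
def dN (a b : ℕ) : ZMod 2 := ((dotInt (dec a) (dec b) / 8 : ℤ) : ZMod 2)

theorem d8_dec {v w : leechLattice} {a b : ℕ} (hv : v.1 = dec a) (hw : w.1 = dec b) :
    d8 v w = dN a b := by
  show ((dotInt v.1 w.1 / 8 : ℤ) : ZMod 2) = _
  rw [hv, hw]
  rfl

theorem kv_of_dec {v : leechLattice} {n t : ℕ} (hv : v.1 = dec n) (ht : t < 4096)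
    (h : ∀ j : Fin 12, dN n (bwN.getD j.1 0) = if t.testBit j.1 then 1 else 0) : kv v = dV t :=
  kv_eq_of_bits ht fun j => (d8_dec hv rfl).trans (h j)

/-! ### The twelve unit vectors -/

theorem ev_ok : ∀ j : Fin 12, inLeech (dec (eN.getD j.1 0)) = true ∧
    (∀ q, dec (eN.getD j.1 0) (tauF q) = dec (eN.getD j.1 0) q) := by
  decide +kernel

/-- Fixed vectors over the unit vectors. -/
def ev (j : Fin 12) : leechLattice := ⟨dec (eN.getD j.1 0), mem_of_inLeech (ev_ok j).1⟩

theorem three_ev (j : Fin 12) : three • ev j = ev j := three_fix_iff.2 (ev_ok j).2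

theorem ev_bits : ∀ i j : Fin 12,
    dN (eN.getD i.1 0) (bwN.getD j.1 0) = if (2 ^ i.1).testBit j.1 then 1 else 0 := by
  decide +kernel

theorem kv_ev (i : Fin 12) : kv (ev i) = dV (2 ^ i.1) :=
  kv_of_dec rfl (show 2 ^ i.1 < 2 ^ 12 from Nat.pow_lt_pow_right (by norm_num) i.2) (ev_bits i)

/-- The fixed vectors. -/
def fixL : AddSubgroup leechLattice where
  carrier := {v | three • v = v}
  zero_mem' := co0_smul_zero three
  add_mem' := fun {a b} ha hb => by
    show three • (a + b) = a + b
    rw [co0_smul_add, ha, hb]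
  neg_mem' := fun {a} ha => by
    show three • -a = -a
    rw [co0_smul_neg, ha]

theorem mem_fixL {v : leechLattice} : v ∈ fixL ↔ three • v = v := Iff.rfl

/-- The listed representative of a vector. -/
noncomputable def Rv (u : Vec) : leechLattice :=
  ∑ j : Fin 12, if (eV u).testBit j.1 then ev j else 0

theorem Rv_mem (u : Vec) : Rv u ∈ AddSubmonoid.closure (Set.range ev) := by
  refine sum_mem fun j _ => ?_
  split_ifs
  · exact AddSubmonoid.subset_closure ⟨j, rfl⟩
  · exact zero_mem _

theorem three_Rv (u : Vec) : three • Rv u = Rv u := by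
  refine mem_fixL.1 (sum_mem fun j _ => ?_)
  split_ifs
  · exact three_ev j
  · exact zero_mem fixL

theorem kv_Rv (u : Vec) : kv (Rv u) = u := by
  let kh : leechLattice →+ Vec := AddMonoidHom.mk' kv kv_add
  show kh (Rv u) = u
  rw [Rv, map_sum]
  conv_rhs => rw [← dV_eV u, dV_fin (eV_lt u)]
  refine Finset.sum_congr rfl fun j _ => ?_
  split_ifs
  · exact kv_ev j
  · exact map_zero kh

/-- Coordinates of a fixed vector at orbit representatives. -/
def coords : fixL →+ (Fin 12 → ℤ) :=
  AddMonoidHom.mk' (fun v j => v.1.1 (pt ((fxL ++ repL).getD j.1 0))) fun _ _ => rfl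

theorem coords_injective : Function.Injective coords := by
  rw [injective_iff_map_eq_zero]
  intro v hv
  have hv' : ∀ j : Fin 12, v.1.1 (pt ((fxL ++ repL).getD j.1 0)) = 0 := congrFun hv
  have hfix := three_fix_iff.1 v.2
  have hit : ∀ n q, v.1.1 (tauF^[n] q) = v.1.1 q := by
    intro n q
    induction n with
    | zero => rfl
    | succ n ih => rw [Function.iterate_succ_apply', hfix, ih]
  have hcov : ∀ q, ∃ j : Fin 12, ∃ n : Fin 3, q = tauF^[n.1] (pt ((fxL ++ repL).getD j.1 0)) := by
    decide +kernel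
  refine Subtype.ext (Subtype.ext (funext fun q => ?_))
  obtain ⟨j, n, rfl⟩ := hcov q
  rw [hit, hv']
  rfl

theorem card_vec : Fintype.card Vec = 4096 := by
  rw [Fintype.card_fun, Fintype.card_fin, show Fintype.card K4 = 4 from rfl]
  norm_num

theorem kv_fixed_injective {v : leechLattice} (hv : three • v = v) (h : kv v = 0) : Cg v 0 := by
  classical
  set N : Submodule ℤ (Fin 12 → ℤ) := LinearMap.range coords.toIntLinearMap
  obtain ⟨n, c⟩ := Submodule.basisOfPid (Pi.basisFun ℤ (Fin 12)) N
  have hn : n ≤ 12 := by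
    have := Submodule.finrank_le N
    rwa [Module.finrank_eq_card_basis c, Fintype.card_fin, Module.finrank_fin_fun] at this
  let e : fixL ≃ₗ[ℤ] N := LinearEquiv.ofInjective coords.toIntLinearMap coords_injective
  set d : Module.Basis (Fin n) ℤ fixL := c.map e.symm
  let kh : fixL →+ Vec := AddMonoidHom.mk' (fun u => kv u.1) fun a b => kv_add a.1 b.1
  let F : (Fin n → ZMod 2) → Vec := fun ε => ∑ i, sel (ε i) (kh (d i))
  have hz : ∀ (m : ℤ) (x : Vec), m • x = sel (m : ZMod 2) x := by
    intro m x
    rcases Int.even_or_odd' m with ⟨k, rfl | rfl⟩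
    · rw [mul_comm, mul_zsmul, two_zsmul, vec_add_self, smul_zero]
      simp [sel, show (2 : ZMod 2) = 0 from rfl]
    · rw [add_zsmul, mul_comm, mul_zsmul, two_zsmul, vec_add_self, smul_zero, zero_add, one_zsmul]
      simp [sel, show (2 : ZMod 2) = 0 from rfl]
  have hF : ∀ u : fixL, F (fun i => (d.repr u i : ZMod 2)) = kh u := by
    intro u
    conv_rhs => rw [← d.sum_repr u, map_sum]
    refine Finset.sum_congr rfl fun i _ => ?_
    rw [map_zsmul, hz]
  have hsurj : Function.Surjective F := fun w =>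
    ⟨_, (hF ⟨Rv w, three_Rv w⟩).trans (kv_Rv w)⟩
  have hcard : Fintype.card (Fin n → ZMod 2) = Fintype.card Vec := by
    have h1 := Fintype.card_le_of_surjective F hsurj
    rw [card_vec, Fintype.card_fun, ZMod.card, Fintype.card_fin] at h1 ⊢
    have := Nat.pow_le_pow_right two_pos hn
    omega
  have hinj : Function.Injective F :=
    ((Fintype.bijective_iff_surjective_and_card F).2 ⟨hsurj, hcard⟩).1
  set u : fixL := ⟨v, hv⟩
  have h0 : (fun i => (d.repr u i : ZMod 2)) = 0 := hinj (by
    rw [hF]
    show kv v = F 0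
    rw [h]
    simp [F, sel])
  refine ⟨(∑ i, (d.repr u i / 2) • d i : fixL).1, ?_⟩
  rw [zero_add, ← AddSubgroup.coe_add]
  refine congrArg Subtype.val (show u = _ from ?_)
  conv_lhs => rw [← d.sum_repr u]
  rw [← Finset.sum_add_distrib]
  refine Finset.sum_congr rfl fun i _ => ?_
  rw [← add_smul]
  congr 1
  have := (ZMod.intCast_zmod_eq_zero_iff_dvd _ 2).1 (congrFun h0 i)
  omega

theorem cg_of_kv {v w : leechLattice} (hv : three • v = v) (hw : three • w = w)
    (h : kv v = kv w) : Cg v w := by
  have h0 : kv (v - w) = 0 := by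
    have := kv_add (v - w) w
    rw [sub_add_cancel, h] at this
    exact (add_eq_right.1 this.symm)
  obtain ⟨u, hu⟩ := kv_fixed_injective (v := v - w) (by
    rw [co0_smul_sub, hv, hw]) h0
  exact ⟨u, by rw [← sub_add_cancel v w, hu]; abel⟩

/-- A fixed class contains a fixed vector. -/
theorem exists_fixed_of_class {v : leechLattice} (h : Cg (three • v) v) :
    ∃ w, three • w = w ∧ Cg w v := by
  refine ⟨v + three ^ 1 • v + three ^ 2 • v, ?_, ?_⟩
  · simp only [co0_smul_add, ← mul_smul, ← pow_succ']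
    rw [show three ^ (2 + 1) = 1 from three_pow_three, one_smul]
    simp only [Nat.reduceAdd, pow_one]
    abel
  · have h2 : Cg (three ^ 2 • v) v := by
      rw [pow_two, mul_smul]
      exact (Cg.smul three h).trans h
    rw [pow_one]
    obtain ⟨a, ha⟩ := h
    obtain ⟨b, hb⟩ := h2
    exact ⟨v + (a + b), by rw [ha, hb]; abel⟩

theorem cg_Rv {v : leechLattice} (h : Cg (three • v) v) : Cg v (Rv (kv v)) := by
  obtain ⟨w, hw, hwv⟩ := exists_fixed_of_class h
  refine hwv.symm.trans (cg_of_kv hw (three_Rv _) ?_)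
  rw [kv_Rv, kv_cg hwv]

theorem Rv_cg_injective {i j : Vec} (h : Cg (Rv i) (Rv j)) : i = j := by
  rw [← kv_Rv i, ← kv_Rv j, kv_cg h]

/-! ### The forms -/

theorem ev_forms :
    (∀ i j : Fin 12, dN (eN.getD i.1 0) (eN.getD j.1 0) = (polC (2 ^ i.1) (2 ^ j.1) : ZMod 2)) ∧
      ∀ i : Fin 12,
        ((sqNorm (dec (eN.getD i.1 0)) / 16 : ℤ) : ZMod 2) = wt (dV (2 ^ i.1)) := by
  decide +kernel

theorem d8_cg {v v' w : leechLattice} (h : Cg v v') : d8 v w = d8 v' w := by
  obtain ⟨u, rfl⟩ := h
  rw [d8_add, d8_add, CharTwo.add_self_eq_zero, add_zero]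

theorem q2_cg {v v' : leechLattice} (h : Cg v v') : q2 v = q2 v' := by
  obtain ⟨u, rfl⟩ := h
  have h8 : d8 u u = 0 := by
    obtain ⟨k, hk⟩ := nrm_dvd u
    have e : dt u u = nrm u := by
      simp only [nrm, dt, sqNorm, dotInt]
      exact Finset.sum_congr rfl fun i _ => (sq _).symm
    show ((dt u u / 8 : ℤ) : ZMod 2) = 0
    rw [e, hk, show (16 : ℤ) * k / 8 = 2 * k by omega, Int.cast_mul]
    simp [show (2 : ZMod 2) = 0 from rfl]
  rw [q2_add, q2_add, d8_comm v', d8_add, h8, CharTwo.add_self_eq_zero,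
    CharTwo.add_self_eq_zero]
  simp [CharTwo.add_self_eq_zero]

theorem forms_closure {x : leechLattice} (hx : x ∈ AddSubmonoid.closure (Set.range ev)) :
    (∀ y ∈ AddSubmonoid.closure (Set.range ev), d8 x y = pol (kv x) (kv y)) ∧
      q2 x = wt (kv x) := by
  have pol0 : ∀ u : Vec, pol 0 u = 0 := fun u => by
    simp [pol, Cfsg.Agent.H41.LFi.wt_zero, CharTwo.add_self_eq_zero]
  have h1 : ∀ x ∈ AddSubmonoid.closure (Set.range ev), ∀ i, d8 x (ev i) = pol (kv x) (kv (ev i)) := by
    intro x hx i
    induction hx using AddSubmonoid.closure_induction with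
    | mem y hy =>
      obtain ⟨j, rfl⟩ := hy
      rw [kv_ev, kv_ev, polC_spec, ← ev_forms.1 j i]
      exact d8_dec rfl rfl
    | zero => rw [d8_zero, kv_zero, pol0]
    | add a b _ _ ha hb => rw [d8_add, kv_add, Cfsg.Agent.H41.LFi.pol_add_left, ha, hb]
  have h2 : ∀ x ∈ AddSubmonoid.closure (Set.range ev),
      ∀ y ∈ AddSubmonoid.closure (Set.range ev), d8 x y = pol (kv x) (kv y) := by
    intro x hx y hy
    induction hy using AddSubmonoid.closure_induction with
    | mem z hz => obtain ⟨i, rfl⟩ := hz; exact h1 x hx i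
    | zero => rw [d8_comm, d8_zero, kv_zero, Cfsg.Agent.H41.LFi.pol_symm, pol0]
    | add a b _ _ ha hb =>
      rw [d8_comm, d8_add, d8_comm a, d8_comm b, kv_add, Cfsg.Agent.H41.LFi.pol_add_right, ha, hb]
  refine ⟨h2 x hx, ?_⟩
  induction hx using AddSubmonoid.closure_induction with
  | mem y hy =>
    obtain ⟨j, rfl⟩ := hy
    rw [kv_ev]
    exact ev_forms.2 j
  | zero => rw [q2_zero, kv_zero, Cfsg.Agent.H41.LFi.wt_zero]
  | add a b ha' hb' ha hb =>
    rw [q2_add, kv_add, ha, hb, h2 a ha' b hb', pol]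
    have key : ∀ p q r : ZMod 2, p + q + (r + p + q) = r := by decide
    exact key _ _ _

/-- The quadratic form of a fixed class is the parity of the support. -/
theorem q2_fixed {v : leechLattice} (h : Cg (three • v) v) : q2 v = wt (kv v) := by
  rw [q2_cg (cg_Rv h), (forms_closure (Rv_mem _)).2, kv_Rv]

end Cfsg.Agent.H89.MonsterThree
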