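import Cfsg.Agent.H89.MonsterThree.Fixed
import Cfsg.Agent.H89.MonsterThree.Sylow
import Cfsg.Agent.H65.MonsterThree.Swap

/-!
A three-central element of order three of the joint centraliser of two commuting conjugates of the
central involution has, after a change of frame, the shape 1^6 3^6.
-/

set_option autoImplicit false
set_option linter.style.haveILetI false

namespace Cfsg.Agent.H89.MonsterThree

open Cfsg Cfsg.Agent.Golay Cfsg.Agent.H92.LeechTwo Cfsg.Agent.H92.MonsterQ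
open Cfsg.Agent.H65.MonsterFive (phi phi_eq_one lift_axis joint_image joint_le qm_facts)
open Cfsg.Agent.H65.MonsterThree (coset_three Noncentral noncentral_conj)

theorem three_signs (c : Co0) (hc : c ∈ signs) : three * c * three⁻¹ ∈ signs := by
  obtain ⟨d, rfl⟩ := mem_signs.1 hc
  obtain ⟨d', -, he⟩ := Cfsg.Agent.H92.LeechTwo.conj_signAut tau d
  rw [three_eq, he]
  exact mem_signs.2 ⟨d', rfl⟩

variable {G : Type*} [Group G] [Finite G] {z : G}
  {Q : Subgroup (Subgroup.centralizer ({z} : Set G))} [Q.Normal]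
  {e : (Subgroup.centralizer ({z} : Set G)) ⧸ Q ≃* Spor.Co1}
  {ψ : leechLattice → Q ⧸ Subgroup.center Q}

/-- The class of a three-central element. -/
theorem class_central (S : Setting z Q e ψ) {x : Q} (hx : ψ (axisVec none) = QuotientGroup.mk x)
    {c : G} (hcz : c ∈ Subgroup.centralizer ({z} : Set G))
    (hcL : c ∈ Subgroup.centralizer ({z, vG x} : Set G)) (hc3 : orderOf c = 3)
    (hnc : ¬ Noncentral (Subgroup.centralizer ({z, vG x} : Set G)) c) :
    ∃ γ ∈ crossStab, (QuotientGroup.mk γ : Spor.Co1) * phi e ⟨c, hcz⟩ * (QuotientGroup.mk γ : Spor.Co1)⁻¹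
      = QuotientGroup.mk three := by
  classical
  haveI : Fact (Nat.Prime 3) := ⟨Nat.prime_three⟩
  set L := Subgroup.centralizer ({z, vG x} : Set G)
  unfold Noncentral at hnc
  push Not at hnc
  obtain ⟨P, hPL, hP27, hcP, hcomm⟩ := hnc
  let π : Co0 →* Spor.Co1 := QuotientGroup.mk' (Subgroup.center Co0)
  let ι : L →* Subgroup.centralizer ({z} : Set G) := Subgroup.inclusion (joint_le x)
  have hlift : ∀ l : L, ∃ γ : crossStab, π γ.1 = phi e (ι l) := by
    intro l
    have h : phi e (ι l) ∈ crossStab.map π := by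
      rw [← joint_image S hx]
      exact ⟨ι l, Subgroup.mem_subgroupOf.2 l.2, rfl⟩
    obtain ⟨γ, hγ, hγe⟩ := h
    exact ⟨⟨γ, hγ⟩, hγe⟩
  choose γf hγf using hlift
  have hwell : ∀ γ δ : crossStab, π γ.1 = π δ.1 → permOf γ = permOf δ := by
    intro γ δ h
    have hmem : (γ⁻¹ * δ : crossStab).1 ∈ signs := center_le_crossStab (QuotientGroup.eq.1 h)
    obtain ⟨a, ha, hae⟩ := hmem
    rw [show a = γ⁻¹ * δ from Subtype.ext hae, SetLike.mem_coe, MonoidHom.mem_ker, map_mul, map_inv,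
      inv_mul_eq_one] at ha
    exact ha
  let θ : L →* M24 := MonoidHom.mk' (fun l => permOf (γf l)) fun l l' => by
    rw [← map_mul]
    refine hwell _ _ ?_
    rw [hγf, map_mul, map_mul, Subgroup.coe_mul, map_mul, hγf, hγf]
  have hQ25 : ∀ q : Q, q ^ 2 ^ 25 = 1 := fun q => by
    rw [← S.setting.2.2.2.1]; exact pow_card_eq_one'
  have hker : IsPGroup 2 θ.ker := by
    rintro ⟨l, hl⟩
    have hs : (γf l).1 ∈ signs := ⟨γf l, hl, rfl⟩
    have h2 : phi e (ι l) * phi e (ι l) = 1 := by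
      rw [← hγf, ← map_mul, signs_sq hs, map_one]
    rw [← map_mul] at h2
    have h3 := hQ25 ⟨_, phi_eq_one.1 h2⟩
    refine ⟨26, Subtype.ext ?_⟩
    show l ^ 2 ^ 26 = 1
    rw [show (2 : ℕ) ^ 26 = 2 * 2 ^ 25 by rw [← pow_succ'], pow_mul, pow_two]
    exact Subtype.ext (congrArg (fun q : Q => vG q) h3)
  have hθinj : ∀ P : Subgroup L, IsPGroup 3 P → ∀ a ∈ P, θ a = 1 → a = 1 := by
    intro P hP a ha h
    obtain ⟨k, hk⟩ := hker ⟨a, h⟩
    obtain ⟨m, hm⟩ := hP ⟨a, ha⟩
    have h1 : a ^ 2 ^ k = 1 := congrArg Subtype.val hk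
    have h2 : a ^ 3 ^ m = 1 := congrArg Subtype.val hm
    exact orderOf_eq_one_iff.1 (Nat.eq_one_of_dvd_coprimes
      (((by norm_num : Nat.Coprime 2 3).pow_left k).pow_right m)
      (orderOf_dvd_of_pow_eq_one h1) (orderOf_dvd_of_pow_eq_one h2))
  set cL : L := ⟨c, hcL⟩ with hcLdef
  set PL := P.subgroupOf L with hPLdef
  have hPLc : Nat.card PL = 27 := by rw [hPLdef, Cfsg.Agent.H92.MonsterCross.card_subgroupOf hPL, hP27]
  have hPLp : IsPGroup 3 PL := IsPGroup.of_card (n := 3) (by rw [hPLc]; rfl)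
  have hcPL : cL ∈ PL := Subgroup.mem_subgroupOf.2 hcP
  have hcL3 : orderOf cL = 3 := by rw [← Subgroup.orderOf_coe]; exact hc3
  have hθc : orderOf (θ cL) = 3 := by
    refine orderOf_eq_prime (by rw [← map_pow, ← hcL3, pow_orderOf_eq_one, map_one]) fun h => ?_
    have h1 := hθinj _ hPLp cL hcPL h
    rw [h1, orderOf_one] at hcL3
    norm_num at hcL3
  have hPθ : Nat.card (PL.map θ) = 27 := by
    refine Eq.trans ?_ hPLc
    refine (Nat.card_congr (Equiv.ofBijective
      (fun a : PL => (⟨θ a.1, a.1, a.2, rfl⟩ : PL.map θ)) ⟨?_, ?_⟩)).symm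
    · intro a a' h
      have h' : θ a.1 = θ a'.1 := congrArg Subtype.val h
      refine Subtype.ext (inv_mul_eq_one.1 (hθinj PL hPLp _ (mul_mem (inv_mem a.2) a'.2) ?_))
      rw [map_mul, map_inv, h', inv_mul_cancel]
    · rintro ⟨_, a, ha, rfl⟩
      exact ⟨⟨a, ha⟩, rfl⟩
  obtain ⟨g, hg⟩ := three_central hPθ hθc ⟨cL, hcPL, rfl⟩ (by
    rintro _ ⟨y, hy, rfl⟩
    rw [← map_mul, ← map_mul]
    exact congrArg θ (Subtype.ext (hcomm y hy)))
  set γ0 := γf cL with hγ0
  have hπ3 : π γ0.1 ^ 3 = 1 := by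
    rw [hγf, ← map_pow, show (ι cL) ^ 3 = 1 from Subtype.ext (show c ^ 3 = 1 by
      rw [← hc3, pow_orderOf_eq_one]), map_one]
  set β : crossStab := γ0 ^ 4
  have hπβ : π β.1 = phi e ⟨c, hcz⟩ := by
    rw [Subgroup.coe_pow, map_pow, pow_succ, hπ3, one_mul, hγf]
    rfl
  have hβ3 : β.1 ^ 3 = 1 := by
    have hc : γ0.1 ^ 3 ∈ Subgroup.center Co0 := (QuotientGroup.eq_one_iff _).1 (by
      show π (γ0.1 ^ 3) = 1
      rw [map_pow, hπ3])
    have h2 : (⟨γ0.1 ^ 3, hc⟩ : Subgroup.center Co0) ^ 2 = 1 := by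
      rw [← card_center_co0]; exact pow_card_eq_one'
    have h2' : (γ0.1 ^ 3) ^ 2 = 1 := congrArg Subtype.val h2
    rw [Subgroup.coe_pow, ← pow_mul, show 4 * 3 = 3 * 2 * 2 by norm_num, pow_mul, pow_mul, h2', one_pow]
  set β' : crossStab := ⟨permAut g, permAut_mem g⟩ * β * ⟨permAut g, permAut_mem g⟩⁻¹ with hβ'
  have hperm : permOf β' = tau := by
    have h4 : permOf β = θ cL := by
      rw [map_pow]
      show θ cL ^ 4 = θ cL
      rw [← pow_mod_orderOf, hθc, pow_one]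
    rw [hβ', map_mul, map_mul, map_inv, permOf_permAut, h4, hg]
  have hmem : β'.1 * three⁻¹ ∈ signs := by
    refine ⟨β' * ⟨permAut tau, permAut_mem tau⟩⁻¹, ?_, ?_⟩
    · rw [SetLike.mem_coe, MonoidHom.mem_ker, map_mul, map_inv, hperm, permOf_permAut, mul_inv_cancel]
    · rw [three_eq]; rfl
  have htau : tau ≠ 1 := fun h => three_ne_one (by
    rw [three_eq, h]
    exact map_one Cfsg.Agent.H92.LeechTwo.permHom)
  have hβ'3 : orderOf β'.1 = 3 := by
    refine orderOf_eq_prime ?_ fun h => ?_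
    · rw [hβ', Subgroup.coe_mul, Subgroup.coe_mul, Subgroup.coe_inv, conj_pow, hβ3, mul_one, mul_inv_cancel]
    · exact htau (by rw [← hperm, show β' = 1 from Subtype.ext h, map_one])
  obtain ⟨n, hn, hnb⟩ := coset_three (N := signs) orderOf_three (by rw [card_signs]; norm_num)
    three_signs hβ'3 hmem
  refine ⟨n * permAut g, mul_mem (signs_le hn) (permAut_mem g), ?_⟩
  rw [← hπβ]
  show π (n * permAut g) * π β.1 * (π (n * permAut g))⁻¹ = π three
  rw [← map_inv, ← map_mul, ← map_mul, ← hnb]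
  refine congrArg π ?_
  show n * permAut g * β.1 * (n * permAut g)⁻¹ = n * (permAut g * β.1 * (permAut g)⁻¹) * n⁻¹
  group

end Cfsg.Agent.H89.MonsterThree
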