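import Cfsg.Agent.H89.MonsterThree.Group

/-!
An element centralising the three-central element that moves the central involution to its
conjugate.
-/

set_option autoImplicit false

namespace Cfsg.Agent.H89.MonsterThree

open Cfsg Cfsg.Agent.Golay Cfsg.Agent.H92.LeechTwo Cfsg.Agent.H92.MonsterQ
open Cfsg.Agent.H65.MonsterFive (phi phi_eq_one lift_axis joint_le qm_facts orderOf_conj_eq)
open Cfsg.Agent.H65.MonsterThree (coset_three Noncentral noncentral_conj)

variable {G : Type*} [Group G] [Finite G] {z : G}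
  {Q : Subgroup (Subgroup.centralizer ({z} : Set G))} [Q.Normal]
  {e : (Subgroup.centralizer ({z} : Set G)) ⧸ Q ≃* Spor.Co1}
  {ψ : leechLattice → Q ⧸ Subgroup.center Q}

/-- The element moving the central involution inside the centraliser -/
theorem exists_mover (S : Setting z Q e ψ) {x : Q} (hx : ψ (axisVec none) = QuotientGroup.mk x)
    {b : G} (hb3 : orderOf b = 3) (hbz : b ∈ Subgroup.centralizer ({z} : Set G))
    (hbs : b * vG x = vG x * b) (hbe : phi e ⟨b, hbz⟩ = QuotientGroup.mk three)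
    (hnc : ¬ Noncentral (Subgroup.centralizer ({z, vG x} : Set G)) b) :
    ∃ g : G, g * b = b * g ∧ g * z * g⁻¹ = vG x := by
  classical
  obtain ⟨hex, hQcard, hzc, hcen, hnorm⟩ := qm_facts S
  set Qm := Q.map (Subgroup.centralizer ({z} : Set G)).subtype with hQm
  obtain ⟨zQ, hzv, hz1, -, -⟩ := exists_zQ S
  obtain ⟨hc, hne⟩ := isConj_of_type S hx (Cfsg.Agent.H92.LeechTwo.nrm_axis none)
  obtain ⟨g0, hg0⟩ := isConj_iff.1 hc
  have hzne : z ≠ 1 := fun h => hz1 (vG_injective (hzv.trans h))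
  have hP : Cfsg.Agent.H92.PairSetting Qm z g0 := ⟨hex, hcen, hnorm, hzc, hzne,
    hg0 ▸ ⟨_, x.2, rfl⟩, hg0 ▸ hne, by rw [hQcard]; norm_num⟩
  obtain ⟨k, hk1, hk2⟩ := hP.exists_swap
  rw [hg0] at hk1 hk2
  set L := Subgroup.centralizer ({z, vG x} : Set G) with hL
  have memL : ∀ u : G, u ∈ L ↔ u * z = z * u ∧ u * vG x = vG x * u := by
    intro u
    rw [hL, Subgroup.mem_centralizer_iff]
    constructor
    · intro h; exact ⟨(h z (by simp)).symm, (h _ (by simp)).symm⟩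
    · rintro ⟨h1, h2⟩ w (rfl | rfl)
      · exact h1.symm
      · exact h2.symm
  have hbL : b ∈ L := (memL b).2 ⟨Subgroup.mem_centralizer_singleton_iff.1 hbz, hbs⟩
  have hcL : k * b * k⁻¹ ∈ L := (memL _).2
    ⟨by
      calc k * b * k⁻¹ * z = k * b * k⁻¹ * (k * vG x * k⁻¹) := by rw [hk2]
        _ = k * (b * vG x) * k⁻¹ := by group
        _ = (k * vG x * k⁻¹) * (k * b * k⁻¹) := by rw [hbs]; group
        _ = z * (k * b * k⁻¹) := by rw [hk2],
    by
      calc k * b * k⁻¹ * vG x = k * b * k⁻¹ * (k * z * k⁻¹) := by rw [hk1]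
        _ = k * (b * z) * k⁻¹ := by group
        _ = (k * z * k⁻¹) * (k * b * k⁻¹) := by
            rw [Subgroup.mem_centralizer_singleton_iff.1 hbz]; group
        _ = vG x * (k * b * k⁻¹) := by rw [hk1]⟩
  have hknorm' : ∀ u ∈ L, (k⁻¹)⁻¹ * u * k⁻¹ ∈ L := by
    intro u hu
    obtain ⟨h1, h2⟩ := (memL u).1 hu
    rw [inv_inv]
    refine (memL _).2 ⟨?_, ?_⟩
    · calc k * u * k⁻¹ * z = k * u * k⁻¹ * (k * vG x * k⁻¹) := by rw [hk2]
        _ = k * (u * vG x) * k⁻¹ := by group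
        _ = (k * vG x * k⁻¹) * (k * u * k⁻¹) := by rw [h2]; group
        _ = z * (k * u * k⁻¹) := by rw [hk2]
    · calc k * u * k⁻¹ * vG x = k * u * k⁻¹ * (k * z * k⁻¹) := by rw [hk1]
        _ = k * (u * z) * k⁻¹ := by group
        _ = (k * z * k⁻¹) * (k * u * k⁻¹) := by rw [h1]; group
        _ = vG x * (k * u * k⁻¹) := by rw [hk1]
  have hcz : k * b * k⁻¹ ∈ Subgroup.centralizer ({z} : Set G) :=
    joint_le x hcL
  obtain ⟨γ, hγ, hγe⟩ := class_central S hx hcz hcL ((orderOf_conj_eq k b).trans hb3)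
    (fun h => hnc (by
      have h' := noncentral_conj hknorm' h
      rwa [inv_inv, show k⁻¹ * (k * b * k⁻¹) * k = b by group] at h'))
  obtain ⟨h, hh1, hh2⟩ := lift_axis S hx hγ
  set N := Qm ⊓ Subgroup.centralizer ({vG x} : Set G) with hN
  have hn : ∀ n ∈ N, b * n * b⁻¹ ∈ N := by
    rintro n ⟨hn1, hn2⟩
    refine ⟨(map_setting S).2 _ hn1 b hbz, ?_⟩
    show b * n * b⁻¹ ∈ Subgroup.centralizer ({vG x} : Set G)
    exact mul_mem (mul_mem (Subgroup.mem_centralizer_singleton_iff.2 hbs) hn2)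
      (inv_mem (Subgroup.mem_centralizer_singleton_iff.2 hbs))
  have hN3 : ¬ 3 ∣ Nat.card N := by
    intro h3
    have h := h3.trans (Subgroup.card_dvd_of_le (inf_le_left : N ≤ Qm))
    rw [hQcard] at h
    norm_num at h
  have hhL : (h : G) ∈ L := (memL _).2 ⟨Subgroup.mem_centralizer_singleton_iff.1 h.2, hh2⟩
  have hcoset : (h : G) * (k * b * k⁻¹) * (h : G)⁻¹ * b⁻¹ ∈ N := by
    refine ⟨?_, ?_⟩
    · refine ⟨h * ⟨k * b * k⁻¹, hcz⟩ * h⁻¹ * ⟨b, hbz⟩⁻¹, phi_eq_one (e := e) |>.1 ?_, rfl⟩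
      rw [map_mul, map_mul, map_mul, map_inv, map_inv, hh1, hbe, hγe, mul_inv_cancel]
    · show (h : G) * (k * b * k⁻¹) * (h : G)⁻¹ * b⁻¹ ∈ Subgroup.centralizer ({vG x} : Set G)
      have hxm : L ≤ Subgroup.centralizer ({vG x} : Set G) := Subgroup.centralizer_le (by simp)
      exact mul_mem (mul_mem (mul_mem (hxm hhL) (hxm hcL)) (inv_mem (hxm hhL))) (inv_mem (hxm hbL))
  obtain ⟨n, hnN, hnb⟩ := coset_three hb3 hN3 hn
    ((orderOf_conj_eq _ _).trans ((orderOf_conj_eq k b).trans hb3)) hcoset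
  have hνL : n * (h : G) ∈ L := (memL _).2
    ⟨Subgroup.mem_centralizer_singleton_iff.1 (mul_mem (Subgroup.map_subtype_le _ hnN.1) h.2),
      Subgroup.mem_centralizer_singleton_iff.1
        (mul_mem hnN.2 (Subgroup.mem_centralizer_singleton_iff.2 hh2))⟩
  refine ⟨n * h * k, mul_inv_eq_iff_eq_mul.1 ?_, ?_⟩
  · conv_rhs => rw [← hnb]
    group
  · calc n * h * k * z * (n * h * k)⁻¹ = n * h * (k * z * k⁻¹) * (n * h)⁻¹ := by group
      _ = vG x := by rw [hk1, ((memL _).1 hνL).2, mul_inv_cancel_right]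

end Cfsg.Agent.H89.MonsterThree
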